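import Groth.Agent.CurveCompl.Basic
import Groth.Agent.CurveRR.Easy
import Groth.Agent.CurveRR.Ample
import Groth.Agent.InvExt.Main
import Groth.Agent.RegDual.Scheme
import Groth.Agent.TMul.AffineLocus

/-!
# Open complements of finitely many closed points of proper curves
-/

set_option autoImplicit false
set_option linter.style.haveILetI false
set_option backward.isDefEq.respectTransparency false
set_option backward.isDefEq.respectTransparency.types false

universe u

open CategoryTheory CategoryTheory.Limits AlgebraicGeometry TopologicalSpace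
open Groth.Agent.QC (res resO res_res res_smul resO_resO resO_self res_self)
open TMul (IsGen)

noncomputable section

namespace Groth.Agent.CurveCompl

open Groth.Agent

theorem isGen_smul {X : Scheme.{u}} {F : X.Modules} {V : X.Opens} {c : Γ(X, V)} (hc : IsUnit c)
    {s : Γ(F, V)} (hs : IsGen s) : IsGen (c • s) := by
  intro O hO
  have e : (fun a : Γ(X, O) => a • res F hO (c • s)) =
      (fun a => a • res F hO s) ∘ (fun a => a * resO X hO c) := funext fun a => by
    simp [res_smul, mul_smul]
  rw [e]
  exact (hs O hO).comp (Units.mulRight_bijective (hc.map (resO X hO)).unit)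

/-- An open of a Noetherian scheme with finite discrete complement of points of dimension at most one
is the generating locus of a section of an invertible module. -/
theorem exists_genLocus_eq {X : Scheme.{u}} [IsNoetherian X] (U : X.Opens)
    (hdisc : DiscreteTopology ↥((U : Set X)ᶜ)) (hdim : topologicalKrullDim X ≤ 1) :
    ∃ (L : X.Modules) (s : Coh.structureModule X ⟶ L), PicF.IsInvertible L ∧ CohB1.genLocus L s = U := by
  have h : ∀ z : ↥((U : Set X)ᶜ), ∃ (W : X.Opens) (f : Γ(X, W)), IsAffineOpen W ∧ z.1 ∈ W ∧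
      (∀ y ∈ W, y ∉ U → y = z.1) ∧ W ⊓ U = X.basicOpen f ∧ {y | y ∈ W ⊓ U ∧ y ⤳ z.1}.Finite := fun z =>
    InvExt.exists_principal_nbhd U hdisc z.2
      ((RegDual.ringKrullDim_stalk_le_topologicalKrullDim z.1).trans hdim)
  choose W f hW hzW hone hf hfin using h
  obtain ⟨F, σ, hF, hσ⟩ := InvExt.exists_rankOne_unit U
  have hu : ∀ z, IsUnit (resO X (inf_le_left : W z ⊓ U ≤ W z) (f z)) := fun z => by
    have h1 : IsUnit (resO X (X.basicOpen_le (f z)) (f z)) := X.toRingedSpace.isUnit_res_basicOpen (f z)
    replace h1 := h1.map (resO X (hf z).le)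
    rw [resO_resO] at h1
    exact h1
  let g : ∀ z, Γ(F, W z ⊓ U) := fun z => (↑(hu z).unit⁻¹ : Γ(X, W z ⊓ U)) • res F le_top σ
  have hg : ∀ z, IsGen (g z) := fun z => by
    have := hσ.res (inf_le_right : W z ⊓ U ≤ U)
    rw [res_res] at this
    exact isGen_smul (Units.isUnit _) this
  have hdisj : ∀ z z', z ≠ z' → W z ⊓ W z' ≤ U := fun z z' hne y hy => by
    by_contra hyU
    exact hne (Subtype.ext ((hone z y hy.1 hyU).symm.trans (hone z' y hy.2 hyU)))
  obtain ⟨L, hL, -, hs⟩ := InvExt.exists_extension hF g hg hdisj fun x hx => ⟨⟨x, hx⟩, hzW _⟩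
  obtain ⟨s, hs⟩ := hs σ f hσ (fun z => by
      change _ = _ • (_ • _)
      rw [← mul_smul, IsUnit.mul_val_inv, one_smul])
    fun z => (hf z).ge.trans inf_le_right
  exact ⟨L, s, hL, hs⟩

/-- A proper open of a proper integral curve is affine. -/
theorem isAffineOpen_of_ne_top (k : Type u) [Field k] {X : Scheme.{u}} [X.Over (Spec (CommRingCat.of k))]
    [IsProper (X ↘ Spec (CommRingCat.of k))] [IsIntegral X] (hdim : topologicalKrullDim X = 1)
    {U : X.Opens} (hne : (U : Set X).Nonempty) {x : X} (hx : x ∉ U)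
    (hdisc : DiscreteTopology ↥((U : Set X)ᶜ)) : IsAffineOpen U := by
  haveI := CurveRR.isNoetherian_of_proper k X
  obtain ⟨L, s, hL, hs⟩ := exists_genLocus_eq U hdisc hdim.le
  have hs0 : s ≠ 0 := by
    rintro rfl
    obtain ⟨y, hy⟩ := hne
    rw [TMul.genLocus_zero] at hs
    rw [← hs] at hy
    exact hy
  have hA := CurveRR.isAmple_of_deg_pos (k := k) hdim hL
    (CurveRR.Easy.deg_pos_of_vanishing (k := k) hdim.le hL s hs0 (hs ▸ hx))
  exact hs ▸ TMul.isAffineOpen_genLocus_of_universallyClosed (X ↘ Spec (CommRingCat.of k)) hA s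

end Groth.Agent.CurveCompl
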