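import Groth.Agent.CurveCompl.Basic

/-!
# Projective completions in dimension at most one mapping to a proper scheme
-/

set_option autoImplicit false
set_option linter.style.haveILetI false
set_option backward.isDefEq.respectTransparency false
set_option backward.isDefEq.respectTransparency.types false

universe u

open CategoryTheory CategoryTheory.Limits AlgebraicGeometry TopologicalSpace

noncomputable section

namespace Groth.Agent.CurveCompl

open Groth.Agent

variable {k : Type u} [Field k] {X : Scheme.{u}}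

/-- A dense open immersion into a proper scheme adds finitely many closed points to a curve. -/
theorem dim_le_one_of_dense_immersion (s : X ⟶ Spec (CommRingCat.of k)) [IsSeparated s] [LocallyOfFiniteType s]
    [QuasiCompact s] (hdim : topologicalKrullDim X ≤ 1) {Y : Scheme.{u}} (g : Y ⟶ Spec (CommRingCat.of k))
    [IsProper g] (j : X ⟶ Y) [IsOpenImmersion j] (hj : j ≫ g = s) (hjr : DenseRange j.base) :
    topologicalKrullDim Y ≤ 1 ∧ ∀ y ∈ (Set.range j.base)ᶜ, IsClosed ({y} : Set Y) := by
  haveI : QuasiCompact (j ≫ g) := hj ▸ inferInstance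
  haveI : QuasiCompact j := QuasiCompact.of_comp j g
  have hjp' : ∀ x, WeilCoh.pdim Y (j x) = WeilCoh.pdim X x := fun x =>
    WeilLib.pdim_eq_of_residueDegree_ne_zero (f := s) j g hj (by
      rw [Scheme.Hom.residueDegree]
      letI := (j.residueFieldMap x).hom.toAlgebra
      have hb : Function.Bijective (j.residueFieldMap x) := ConcreteCategory.bijective_of_isIso _
      haveI : Module.Finite (Y.residueField (j x)) (X.residueField x) :=
        Module.Finite.of_surjective (Algebra.linearMap _ _) hb.2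
      exact (Module.finrank_pos (R := Y.residueField (j x)) (M := X.residueField x)).ne')
  have hbd : ∀ y ∈ (Set.range j.base)ᶜ, IsClosed ({y} : Set Y) := by
    intro y hy
    obtain ⟨x, hx⟩ := DomLib.exists_specializes j (y := y) (hjr y)
    refine (WeilLib.pdim_eq_zero_iff g y).1 ?_
    have h1 := WeilLib.pdim_lt g hx fun e => hy ⟨x, e.symm⟩
    rw [hjp'] at h1
    have h2 := pdim_le_one s hdim x
    omega
  refine ⟨dim_le_one_of_pdim g fun y => ?_, hbd⟩
  by_cases hy : y ∈ Set.range j.base
  · obtain ⟨x, rfl⟩ := hy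
    exact (hjp' x).le.trans (pdim_le_one s hdim x)
  · rw [(WeilLib.pdim_eq_zero_iff g y).2 (hbd y hy)]
    exact Nat.zero_le _

/-- Extension of a morphism to a projective completion. -/
theorem exists_completion_over (s : X ⟶ Spec (CommRingCat.of k)) [IsSeparated s] [LocallyOfFiniteType s]
    [QuasiCompact s] (hdim : topologicalKrullDim X ≤ 1) {Y : Scheme.{u}} (p : Y ⟶ Spec (CommRingCat.of k))
    [IsProper p] (f : X ⟶ Y) (hf : f ≫ p = s) :
    ∃ (Z : Scheme.{u}) (q : Z ⟶ Spec (CommRingCat.of k)) (j : X ⟶ Z) (g : Z ⟶ Y) (n : ℕ)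
      (c : Z ⟶ CohB1.ProjSpace n k), IsProper q ∧ IsOpenImmersion j ∧ DenseRange j.base ∧
      IsSchemeTheoreticallyDominant j ∧ j ≫ g = f ∧ j ≫ q = s ∧ g ≫ p = q ∧ topologicalKrullDim Z ≤ 1 ∧
      IsClosedImmersion c ∧ c ≫ CohB1.ProjSpace.toSpec n k = q := by
  obtain ⟨Z, j, q, b₁, b₂, hj, _, hjd, hjr, hq, hjq, hb, -, hjb, -⟩ :=
    Nagata.exists_over_two s p p f f hf hf
  obtain ⟨hZ, -⟩ := dim_le_one_of_dense_immersion s hdim q j hjq hjr
  obtain ⟨n, c, hc, hcq⟩ := exists_closedImmersion q hZ
  exact ⟨Z, q, j, b₁, n, c, hq, hj, hjr, hjd, hjb, hjq, hb, hZ, hc, hcq⟩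

end Groth.Agent.CurveCompl
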