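import Groth.Agent.S1551
import Groth.Agent.WeilLib.Trdeg
import Groth.Agent.WeilLib.FixedPoints
import Groth.Agent.SpQS.UnivBddScheme
import Groth.Agent.PnSpec.Basic
import Groth.Agent.BMCoh.Height
import Groth.Agent.Nagata.Noether
import Groth.Agent.Nagata.Dense
import Groth.Agent.LocImmBlow.Apps
import Groth.Agent.SymAlg.ProjHProj
import Groth.Agent.DomLib.Basic

/-!
# Projective completions in dimension at most one
-/

set_option autoImplicit false
set_option linter.style.haveILetI false
set_option backward.isDefEq.respectTransparency false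
set_option backward.isDefEq.respectTransparency.types false

universe u

open CategoryTheory CategoryTheory.Limits AlgebraicGeometry TopologicalSpace

noncomputable section

namespace Groth.Agent.CurveCompl

open Groth.Agent

variable {k : Type u} [Field k] {X : Scheme.{u}}

theorem dim_le_one_of_pdim (f : X ⟶ Spec (CommRingCat.of k)) [LocallyOfFiniteType f]
    (h : ∀ x : X, WeilCoh.pdim X x ≤ 1) : topologicalKrullDim X ≤ 1 := by
  letI := specializationOrder X
  rw [topologicalKrullDim, Order.krullDim_eq_of_orderIso irreducibleSetEquivPoints, Order.krullDim_eq_iSup_height]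
  refine iSup_le fun x => ?_
  have := (WeilLib.exists_pdim_eq_trd f x).2
  rw [show Order.height x = _ from this]
  exact_mod_cast h x

theorem pdim_le_one (f : X ⟶ Spec (CommRingCat.of k)) [LocallyOfFiniteType f] (hdim : topologicalKrullDim X ≤ 1)
    (x : X) : WeilCoh.pdim X x ≤ 1 := by
  have h1 := (topologicalKrullDim_subspace_le X (closure ({x} : Set X))).trans hdim
  rw [BMCoh.topologicalKrullDim_closure_singleton] at h1
  have h2 := (WeilLib.exists_pdim_eq_trd f x).2
  rw [show Order.height x = _ from h2] at h1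
  exact_mod_cast h1

/-- A proper scheme of dimension at most one over a field is projective. -/
theorem exists_closedImmersion (g : X ⟶ Spec (CommRingCat.of k)) [IsProper g] (hdim : topologicalKrullDim X ≤ 1) :
    ∃ (d : ℕ) (c : X ⟶ CohB1.ProjSpace d k), IsClosedImmersion c ∧ c ≫ CohB1.ProjSpace.toSpec d k = g := by
  haveI : IsNoetherian X := LocImmBlow.isNoetherian_of_ft g
  haveI : X.IsSeparated := ⟨by rw [← terminal.comp_from g]; infer_instance⟩
  obtain ⟨L, hL⟩ : ∃ L : X.Modules, CohB1.IsAmple L := by
    by_cases h : ∀ x : X, IsClosed ({x} : Set X)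
    · haveI : Finite X := Set.finite_univ_iff.1 (WeilLib.finite_of_forall_isClosed isClosed_univ fun w _ => h w)
      haveI : T1Space X := ⟨h⟩
      haveI : DiscreteTopology X := inferInstance
      haveI := SpQS.isAffine_of_finite_of_discrete X
      exact ⟨_, TMul.isAmple_of_isQuasiAffine (TMul.isInvertible_structureModule (X := X))⟩
    · push Not at h
      obtain ⟨x, hx⟩ := h
      refine S1551.result X (le_antisymm hdim ?_)
      have h0 : WeilCoh.pdim X x ≠ 0 := fun h0 => hx ((WeilLib.pdim_eq_zero_iff g x).1 h0)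
      refine le_trans ?_ (topologicalKrullDim_subspace_le X (closure ({x} : Set X)))
      letI := specializationOrder X
      rw [BMCoh.topologicalKrullDim_closure_singleton]
      rw [show Order.height x = _ from (WeilLib.exists_pdim_eq_trd g x).2]
      exact_mod_cast Nat.one_le_iff_ne_zero.2 h0
  obtain ⟨n, i, hi, hig⟩ := SymAlg.isHProjective_of_affine
    (LocImmBlow.isProjective_of_ample g ((TMul.isRelAmple_iff_isAmple (f := g)).2 hL))
  obtain ⟨e, he⟩ := PnSpec.exists_iso n k
  refine ⟨n, i ≫ e.inv, inferInstance, ?_⟩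
  rw [← he, Category.assoc, e.inv_hom_id_assoc, hig]

/-- A projective completion by finitely many closed points. -/
theorem exists_completion (s : X ⟶ Spec (CommRingCat.of k)) [IsSeparated s] [LocallyOfFiniteType s] [QuasiCompact s]
    (hdim : topologicalKrullDim X ≤ 1) :
    ∃ (d : ℕ) (Y : Scheme.{u}) (c : Y ⟶ CohB1.ProjSpace d k) (j : X ⟶ Y), IsClosedImmersion c ∧ IsOpenImmersion j ∧
      j ≫ c ≫ CohB1.ProjSpace.toSpec d k = s ∧ Dense (Set.range j.base) ∧ IsSchemeTheoreticallyDominant j ∧
      (Set.range j.base)ᶜ.Finite ∧ (∀ y ∈ (Set.range j.base)ᶜ, IsClosed ({y} : Set Y)) ∧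
      topologicalKrullDim Y ≤ 1 := by
  obtain ⟨Z, j₀, p, _, _, _, hjp⟩ := Nagata.exists_compactification s
  haveI : QuasiCompact (j₀ ≫ p) := hjp ▸ inferInstance
  haveI : QuasiCompact j₀ := QuasiCompact.of_comp j₀ p
  obtain ⟨_, _, hjd, hjr, _, hj⟩ := Nagata.exists_dense_image s j₀ p hjp
  let g := j₀.imageι ≫ p
  let j := j₀.toImage
  have hjp' : ∀ x, WeilCoh.pdim j₀.image (j x) = WeilCoh.pdim X x := fun x =>
    WeilLib.pdim_eq_of_residueDegree_ne_zero (f := s) j g hj (by
      rw [Scheme.Hom.residueDegree]
      letI := (j.residueFieldMap x).hom.toAlgebra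
      have hb : Function.Bijective (j.residueFieldMap x) := ConcreteCategory.bijective_of_isIso _
      haveI : Module.Finite (j₀.image.residueField (j x)) (X.residueField x) :=
        Module.Finite.of_surjective (Algebra.linearMap _ _) hb.2
      exact (Module.finrank_pos (R := j₀.image.residueField (j x)) (M := X.residueField x)).ne')
  have hbd : ∀ y ∈ (Set.range j.base)ᶜ, IsClosed ({y} : Set j₀.image) := by
    intro y hy
    obtain ⟨η, hη, hηmax⟩ : ∃ η : j₀.image, η ⤳ y ∧ η ∈ Set.range j.base := by
      obtain ⟨x, hx⟩ := DomLib.exists_specializes j (y := y) (hjr y)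
      exact ⟨j x, hx, x, rfl⟩
    obtain ⟨x, rfl⟩ := hηmax
    refine (WeilLib.pdim_eq_zero_iff g y).1 ?_
    have h1 := WeilLib.pdim_lt g hη fun e => hy ⟨x, e.symm⟩
    rw [hjp'] at h1
    have h2 := pdim_le_one s hdim x
    omega
  haveI : IsNoetherian j₀.image := LocImmBlow.isNoetherian_of_ft g
  have hdim' : topologicalKrullDim j₀.image ≤ 1 := by
    refine dim_le_one_of_pdim g fun y => ?_
    by_cases hy : y ∈ Set.range j.base
    · obtain ⟨x, rfl⟩ := hy
      exact (hjp' x).le.trans (pdim_le_one s hdim x)
    · rw [(WeilLib.pdim_eq_zero_iff g y).2 (hbd y hy)]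
      exact Nat.zero_le _
  obtain ⟨d, c, hc, hcg⟩ := exists_closedImmersion g hdim'
  exact ⟨d, j₀.image, c, j, hc, inferInstance, by rw [hcg]; exact hj, hjr, hjd,
    WeilLib.finite_of_forall_isClosed j.isOpenEmbedding.isOpen_range.isClosed_compl hbd, hbd, hdim'⟩

end Groth.Agent.CurveCompl
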